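import Cfsg.Agent.H114.O12.L2
import Cfsg.Agent.H114.AltNorm
import Cfsg.Agent.H614.AMod.Main

/-!
# The rows `A_m`, `m ≥ 8`, of S5872 and S5875 (helper114)
-/

set_option autoImplicit false
set_option linter.unusedSectionVars false

namespace Cfsg.Agent.H114.O12

open Module Cfsg Cfsg.Geo Matrix Cfsg.Agent.H915.LD Cfsg.Agent.H114.AltNat

universe u v

variable {F : Type u} [Field F] [Fintype F] {p : ℕ} {Q : (Fin 12 → F) → F} {H P : Subgroup (GL (Fin 12) F)}

/-- the module of H964 -/
theorem natM_of {m : ℕ} {φ : P ≃* alternatingGroup (Fin m)} {w : Fin m → Fin m → Fin 12 → F}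
    (hw : H964.AltMod.NatM (H964.AltMod.rep φ) w) : NatM (AltNat.rep (th φ.symm)) w where
  anti := hw.anti
  add := hw.tri
  equiv := fun g i j => by
    have h1 := hw.act g i j
    rw [H964.AltMod.rep_apply] at h1
    exact h1
  span := hw.span
  ne := hw.ne

theorem irr_of (hC : Core P) {m : ℕ} (φ : P ≃* alternatingGroup (Fin m)) (W : Submodule F (Fin 12 → F))
    (hW : ∀ g : alternatingGroup (Fin m), ∀ w ∈ W, AltNat.rep (th φ.symm) g w ∈ W) : W = ⊥ ∨ W = ⊤ := by
  refine H964.AltMod.irr_rep φ hC W fun g w hw => ?_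
  have h1 := hW g w hw
  rw [H964.AltMod.rep_apply]
  exact h1

/-- **`A_m`, `m ≥ 8`.** -/
theorem row_alt (h : Cx p Q H P) {m : ℕ} (hm : 8 ≤ m) (h82 : ¬ (m = 8 ∧ p = 2))
    (e : Soc P ≃* alternatingGroup (Fin m)) : Concl Q P p := by
  have hpF := Fact.mk h.prime
  have := h.char
  have hC := h.core
  have hcard : Fintype.card (Fin 12) = 12 := Fintype.card_fin 12
  rcases H614.AMod.Main.alt_cases hC p e hm (by rw [hcard]) h82 with hN | hN | hN
  · have hd := hN.dim hC hm p
    rw [hcard] at hd
    obtain ⟨φ, -, w, hw⟩ := hN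
    have hF : Fintype.card F = p := H964.AltMod.card_eq hC (by rwa [Fintype.card_fin]) hw p
    have hM := natM_of hw
    have hfix : ∀ g v, Q (AltNat.rep (th φ.symm) g v) = Q v := fun g v =>
      H933.O10.fix_of_mem_omegaGL (h.le_omega (φ.symm g).2) v
    have hspan : Submodule.span F (Set.range fun g => (th φ.symm g : Matrix (Fin 12) (Fin 12) F)) = ⊤ := by
      apply H464.Sl2.span_eq_top
      have hr : (th φ.symm).range = P := by
        ext x
        constructor
        · rintro ⟨g, rfl⟩
          exact (φ.symm g).2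
        · intro hx
          exact ⟨φ ⟨x, hx⟩, by rw [th_apply, MulEquiv.symm_apply_apply]⟩
      rw [hr]
      exact hC.absIrred
    rcases hd with ⟨hpm, hm13⟩ | ⟨hpm, hm14⟩
    · -- `A_13`
      have hm' : m = 13 := by omega
      subst hm'
      have hp13 : p ≠ 13 := fun h3 => hpm (by rw [h3])
      have h13F : ((13 : ℕ) : F) ≠ 0 := cast_ne h (by norm_num) hp13
      have hmod := mod13 p (mod_ne h.prime (by norm_num) hp13)
      have key : IsPlusTypeOn Q ⊤ ↔ IsSquare (p : ZMod 13) := by
        by_cases hp2 : p = 2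
        · subst hp2
          have h4 : ¬ IsSquare ((2 : ℕ) : ZMod 13) := by decide
          refine ⟨fun hplus => absurd ?_ (show ¬ (((2 : ℕ) : ZMod 13) ^ 6 = 1) by decide), fun h5 => absurd h5 h4⟩
          have h13 : Fact (Nat.Prime 13) := ⟨by norm_num⟩
          have h5 := plus_pow (k := 6) (by norm_num) hM h.hQ hplus (fun g v => hfix g v) (by rw [hcard]) (by rw [hcard])
            (by norm_num)
          rwa [hF] at h5
        · have h5 := hM.plusA h.hQ hfix (two_ne h hp2) (by rw [Fintype.card_fin]; norm_num)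
            (by rw [hcard, Fintype.card_fin]) (by rw [Fintype.card_fin]; exact h13F) (k := 6) (by rw [hcard])
          rw [h5, Fintype.card_fin]
          have h3 : ((-1 : F)) ^ 6 * ((13 : ℕ) : F) = ((13 : ℕ) : F) := by norm_num
          rw [h3, Ty.isSquare_natCast_iff (k := 0) h.prime hp2 (by rw [hF]; ring) 13 h13F]
          exact_mod_cast Ty.isSquare_thirteen hp2
      refine ⟨fun hplus => ?_, fun hminus => ?_⟩
      · exact Or.inr (Or.inr (Or.inr (Or.inr ⟨⟨e⟩, hF, hmod.1 (key.1 hplus)⟩)))
      · refine Or.inr (Or.inr (Or.inr (Or.inl ⟨⟨e⟩, hF, ?_, hmod.2 (fun h5 => hminus (key.2 h5))⟩)))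
        rintro rfl
        refine not_maximal_of_dvd (two_ne h (by norm_num)) ?_ (by norm_num) φ.symm hspan hM (by rw [hcard]) h13F ?_
          h.hQ h.hH h.hc.le h.hc.normal
        · have := cast_ne h (r := 3) (by norm_num) (by norm_num)
          exact_mod_cast this
        · have h14 : ((14 : ℕ) : F) = 0 := by
            rw [CharP.cast_eq_zero_iff F 7]
            norm_num
          have h15 : ((13 : ℕ) : F) + 1 = ((14 : ℕ) : F) := by push_cast; norm_num
          rw [h15, h14]
    · -- `A_14`
      have hm' : m = 14 := by omega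
      subst hm'
      have h14F : ((14 : ℕ) : F) = 0 := (CharP.cast_eq_zero_iff F p 14).2 hpm
      have hfr : finrank F (Fin 12 → F) = 12 := by rw [finrank_fintype_fun_eq_card, hcard]
      have h0 : ∀ i0, ∑ j, w j i0 = 0 := by
        rcases hM.cases (by rw [Fintype.card_fin]; norm_num) (irr_of hC φ) (by rw [hfr]; norm_num) with h3 | h3
        · rw [hfr, Fintype.card_fin] at h3
          omega
        · exact h3.2.2
      have hp27 : p = 2 ∨ p = 7 := by
        have h3 : p ∣ 2 * 7 := hpm
        rcases (Nat.Prime.dvd_mul h.prime).1 h3 with h4 | h4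
        · exact Or.inl ((Nat.prime_dvd_prime_iff_eq h.prime Nat.prime_two).1 h4)
        · exact Or.inr ((Nat.prime_dvd_prime_iff_eq h.prime (by norm_num)).1 h4)
      rcases hp27 with rfl | rfl
      · exfalso
        exact no_form (by rw [Fintype.card_fin]; norm_num) hM h.hQ hfix (by rw [hcard, Fintype.card_fin]) 0 (h0 0)
          (k := 45) (by rw [Fintype.card_fin])
      · have h5 := hM.plusB h.hQ hfix (two_ne h (by norm_num)) (by rw [Fintype.card_fin]; norm_num)
          (by rw [hcard, Fintype.card_fin]) 0 (h0 0) (k := 6) (by rw [hcard])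
        rw [hcard] at h5
        have hns : ¬ IsPlusTypeOn Q ⊤ := by
          rw [h5]
          have h3 : ((-1 : F)) ^ 6 * ((12 + 1 : ℕ) : F) = ((13 : ℕ) : F) := by norm_num
          rw [h3, Ty.isSquare_natCast_iff (k := 0) h.prime (by norm_num) (by rw [hF]; ring) 13
            (cast_ne h (by norm_num) (by norm_num))]
          decide
        exact ⟨fun hplus => absurd hplus hns, fun _ => Or.inr (Or.inr (Or.inr (Or.inr ⟨⟨e⟩, hF⟩)))⟩
  · have := hN.n8
    rw [hcard] at this
    omega
  · have := hN.1
    rw [hcard] at this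
    omega

end Cfsg.Agent.H114.O12
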