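import Cfsg.Agent.H933.O10.Base
import Cfsg.Prelude.Def_Spor_Mathieu

/-!
# The setting of S5872 and S5875: residual cores in `Ω₁₂^±(q)` (helper114)

* `Cx p Q H P` : `H` is a maximal subgroup of `omegaGL Q`, `dim = 12`, with residual core `P`;
* `Cx.core`, `Cx.fixQ`, `Cx.sd`, `Cx.scalar_sq`, `Cx.scalar_pm` : the first consequences;
* `Concl Q P p` : the conclusion of the two statements.
-/

set_option autoImplicit false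
set_option linter.unusedSectionVars false

namespace Cfsg.Agent.H114.O12

open Cfsg Cfsg.Geo Matrix Cfsg.Agent.H915.LD

universe u

variable {F : Type u} [Field F]

/-- The setting: `H` maximal in `omegaGL Q`, `P` a residual core of `H`. -/
structure Cx (p : ℕ) (Q : (Fin 12 → F) → F) (H P : Subgroup (GL (Fin 12) F)) : Prop where
  prime : p.Prime
  char : CharP F p
  hQ : IsNondegenerateQuadraticForm Q
  hH : IsMaximalIn (omegaGL Q) H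
  hc : IsResidualCore H P

/-- the conclusion of S5872 for the core `P` -/
def ConclPlus [Fintype F] (P : Subgroup (GL (Fin 12) F)) (p : ℕ) : Prop :=
    ((Nonempty ((P ⧸ (Cfsg.Geo.scalars (Fin 12) F).subgroupOf P) ≃* Matrix.ProjectiveSpecialLinearGroup (Fin 2) (ZMod 11)) ∧ Fintype.card F = p ∧ (p % 55 = 1 ∨ p % 55 = 54 ∨ p % 55 = 16 ∨ p % 55 = 39 ∨ p % 55 = 19 ∨ p % 55 = 36 ∨ p % 55 = 24 ∨ p % 55 = 31 ∨ p % 55 = 26 ∨ p % 55 = 29)) ∨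
     (Nonempty ((P ⧸ (Cfsg.Geo.scalars (Fin 12) F).subgroupOf P) ≃* Matrix.ProjectiveSpecialLinearGroup (Fin 2) (ZMod 13)) ∧ ((Fintype.card F = p ∧ (p % 7 = 1 ∨ p % 7 = 6) ∧ (p % 13 = 1 ∨ p % 13 = 12 ∨ p % 13 = 3 ∨ p % 13 = 10 ∨ p % 13 = 4 ∨ p % 13 = 9)) ∨ (Fintype.card F = p ^ 3 ∧ (p % 91 = 3 ∨ p % 91 = 88 ∨ p % 91 = 4 ∨ p % 91 = 87 ∨ p % 91 = 9 ∨ p % 91 = 82 ∨ p % 91 = 10 ∨ p % 91 = 81 ∨ p % 91 = 12 ∨ p % 91 = 79 ∨ p % 91 = 16 ∨ p % 91 = 75 ∨ p % 91 = 17 ∨ p % 91 = 74 ∨ p % 91 = 23 ∨ p % 91 = 68 ∨ p % 91 = 25 ∨ p % 91 = 66 ∨ p % 91 = 30 ∨ p % 91 = 61 ∨ p % 91 = 38 ∨ p % 91 = 53 ∨ p % 91 = 40 ∨ p % 91 = 51)))) ∨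
     (Nonempty ((P ⧸ (Cfsg.Geo.scalars (Fin 12) F).subgroupOf P) ≃* Matrix.ProjectiveSpecialLinearGroup (Fin 3) (ZMod 3)) ∧ Fintype.card F = p ∧ p ≠ 3 ∧ (p % 13 = 1 ∨ p % 13 = 12 ∨ p % 13 = 3 ∨ p % 13 = 10 ∨ p % 13 = 4 ∨ p % 13 = 9) ∧ (p % 12 = 1 ∨ p % 12 = 11) ∧ (∃ s : Finset F, s.card = 4 ∧ ∀ x ∈ s, x ^ 4 - 10 * x ^ 2 + 13 = 0)) ∨
     (Cfsg.Spor.IsoM12 (P ⧸ (Cfsg.Geo.scalars (Fin 12) F).subgroupOf P) ∧ Fintype.card F = p ∧ (p % 24 = 1 ∨ p % 24 = 23)) ∨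
     (Nonempty ((P ⧸ (Cfsg.Geo.scalars (Fin 12) F).subgroupOf P) ≃* alternatingGroup (Fin 13)) ∧ Fintype.card F = p ∧ (p % 13 = 1 ∨ p % 13 = 12 ∨ p % 13 = 3 ∨ p % 13 = 10 ∨ p % 13 = 4 ∨ p % 13 = 9)))

/-- the conclusion of S5875 for the core `P` -/
def ConclMinus [Fintype F] (P : Subgroup (GL (Fin 12) F)) (p : ℕ) : Prop :=
    ((Nonempty ((P ⧸ (Cfsg.Geo.scalars (Fin 12) F).subgroupOf P) ≃* Matrix.ProjectiveSpecialLinearGroup (Fin 2) (ZMod 11)) ∧ ((Fintype.card F = p ∧ (p % 55 = 4 ∨ p % 55 = 51 ∨ p % 55 = 6 ∨ p % 55 = 49 ∨ p % 55 = 9 ∨ p % 55 = 46 ∨ p % 55 = 14 ∨ p % 55 = 41 ∨ p % 55 = 21 ∨ p % 55 = 34)) ∨ (Fintype.card F = p ^ 2 ∧ (p % 5 = 2 ∨ p % 5 = 3)))) ∨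
     (Nonempty ((P ⧸ (Cfsg.Geo.scalars (Fin 12) F).subgroupOf P) ≃* Matrix.ProjectiveSpecialLinearGroup (Fin 2) (ZMod 13)) ∧ ((Fintype.card F = p ∧ (p % 7 = 1 ∨ p % 7 = 6) ∧ (p % 13 = 2 ∨ p % 13 = 11 ∨ p % 13 = 5 ∨ p % 13 = 8 ∨ p % 13 = 6 ∨ p % 13 = 7)) ∨ (Fintype.card F = p ^ 3 ∧ (p % 91 = 2 ∨ p % 91 = 89 ∨ p % 91 = 5 ∨ p % 91 = 86 ∨ p % 91 = 11 ∨ p % 91 = 80 ∨ p % 91 = 18 ∨ p % 91 = 73 ∨ p % 91 = 19 ∨ p % 91 = 72 ∨ p % 91 = 24 ∨ p % 91 = 67 ∨ p % 91 = 31 ∨ p % 91 = 60 ∨ p % 91 = 32 ∨ p % 91 = 59 ∨ p % 91 = 33 ∨ p % 91 = 58 ∨ p % 91 = 37 ∨ p % 91 = 54 ∨ p % 91 = 44 ∨ p % 91 = 47 ∨ p % 91 = 45 ∨ p % 91 = 46)))) ∨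
     (Nonempty ((P ⧸ (Cfsg.Geo.scalars (Fin 12) F).subgroupOf P) ≃* Matrix.ProjectiveSpecialLinearGroup (Fin 3) (ZMod 3)) ∧ Fintype.card F = p ∧ (p % 13 = 2 ∨ p % 13 = 11 ∨ p % 13 = 5 ∨ p % 13 = 8 ∨ p % 13 = 6 ∨ p % 13 = 7) ∧ (p % 12 = 1 ∨ p % 12 = 11 ∨ p % 12 = 2)) ∨
     (Nonempty ((P ⧸ (Cfsg.Geo.scalars (Fin 12) F).subgroupOf P) ≃* alternatingGroup (Fin 13)) ∧ Fintype.card F = p ∧ p ≠ 7 ∧ (p % 13 = 2 ∨ p % 13 = 11 ∨ p % 13 = 5 ∨ p % 13 = 8 ∨ p % 13 = 6 ∨ p % 13 = 7)) ∨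
     (Nonempty ((P ⧸ (Cfsg.Geo.scalars (Fin 12) F).subgroupOf P) ≃* alternatingGroup (Fin 14)) ∧ Fintype.card F = 7))

/-- the conclusion of the two statements -/
def Concl [Fintype F] (Q : (Fin 12 → F) → F) (P : Subgroup (GL (Fin 12) F)) (p : ℕ) : Prop :=
  (IsPlusTypeOn Q ⊤ → ConclPlus P p) ∧ (¬ IsPlusTypeOn Q ⊤ → ConclMinus P p)

namespace Cx

variable {p : ℕ} {Q : (Fin 12 → F) → F} {H P : Subgroup (GL (Fin 12) F)}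

theorem core (h : Cx p Q H P) : Core P := core_of_residual h.hc

theorem le_omega (h : Cx p Q H P) : P ≤ omegaGL Q := h.hc.le.trans h.hH.1.le

theorem fixes (h : Cx p Q H P) : FixesQuadForm (matrixSet P) Q := by
  rintro _ ⟨g, hg, rfl⟩ v
  exact H933.O10.fix_of_mem_omegaGL (h.le_omega hg) v

theorem fixQ (h : Cx p Q H P) : FixQ P := ⟨Q, h.hQ, h.fixes⟩

theorem sd (h : Cx p Q H P) : SD P := H933.O10.sd_of_le h.hQ h.le_omega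

/-- the scalars in `P` are `±1` -/
theorem scalar_sq (h : Cx p Q H P) {g : GL (Fin 12) F} (hg : g ∈ P) {c : F}
    (hc : (g : Matrix (Fin 12) (Fin 12) F) = c • (1 : Matrix (Fin 12) (Fin 12) F)) : c ^ 2 = 1 := by
  obtain ⟨v, hv⟩ := H879.TL.exists_ne_of_nondeg h.hQ
  have h2 := H933.O10.fix_of_mem_omegaGL (h.le_omega hg) v
  rw [hc, Matrix.smul_mulVec, Matrix.one_mulVec, h.hQ.smul] at h2
  have h4 : (c ^ 2 - 1) * Q v = 0 := by rw [sub_mul, h2, one_mul, sub_self]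
  exact sub_eq_zero.1 ((mul_eq_zero.1 h4).resolve_right hv)

/-- a scalar matrix in `P` is `1` or `-1` -/
theorem scalar_pm (h : Cx p Q H P) {g : GL (Fin 12) F} (hg : g ∈ P) (hs : g ∈ scalars (Fin 12) F) :
    (g : Matrix (Fin 12) (Fin 12) F) = 1 ∨ (g : Matrix (Fin 12) (Fin 12) F) = -1 := by
  obtain ⟨c, hc'⟩ := (mem_scalars_iff g).1 hs
  have h1 : (c : F) = 1 ∨ (c : F) = -1 := by
    have := h.scalar_sq hg hc'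
    exact mul_self_eq_one_iff.1 (by rw [← sq]; exact this)
  rcases h1 with h1 | h1
  · left; rw [hc', h1, one_smul]
  · right; rw [hc', h1, neg_one_smul]

end Cx

end Cfsg.Agent.H114.O12
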