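import Cfsg.Agent.H114.O12.Rows
import Cfsg.Agent.H936.List12c
import Cfsg.Agent.H937.G24.Row
import Cfsg.Agent.H921.M22.Final
import Cfsg.Agent.H4.LDM.Stage24
import Cfsg.Agent.H659.J1Not11
import Cfsg.Agent.H179.JoneL
import Cfsg.Agent.H95.JT.Core
import Cfsg.Agent.H905.JDAll
import Cfsg.Agent.H878.Sz.MainP3
import Cfsg.Agent.H878.Sz.MainThree
import Cfsg.Agent.S0253
import Cfsg.Agent.S0256

/-!
# S5872 and S5875: cross characteristic (helper114)
-/

set_option autoImplicit false
set_option linter.unusedSectionVars false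

namespace Cfsg.Agent.H114.O12

open Cfsg Cfsg.Geo Matrix Cfsg.Agent.H915.LD Cfsg.Agent.H912.Bd
open Cfsg.Agent.H936.List12 (AltC LieC MultD SporC CandD)

universe u v

variable {F : Type u} [Field F] [Fintype F] {p : ℕ} {Q : (Fin 12 → F) → F} {H P : Subgroup (GL (Fin 12) F)}

theorem row_g24 (h : Cx p Q H P) (hp2 : p ≠ 2) (hT : H912.Bd.IsG2 4 (Soc P)) : False := by
  have := Fact.mk h.prime
  have := h.char
  exact (H937.G24.row h.core hT p hp2 c12).2.2.2.2 h.fixQ

/-- the alternating groups -/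
theorem cross_alt (h : Cx p Q H P) (hc : AltC p 12 (Soc P)) (hL : ¬ IsLieTypeChar p (Soc P))
    (r7 : Nonempty (Soc P ≃* alternatingGroup (Fin 7)) → False) : Concl Q P p := by
  obtain ⟨m, h5, h14, -, -, -, he⟩ := hc
  rcases (show m = 5 ∨ m = 6 ∨ m = 7 ∨ 8 ≤ m by omega) with rfl | rfl | rfl | h8
  · by_cases hp5 : p = 5
    · exfalso
      apply hL
      subst hp5
      obtain ⟨e⟩ := he
      have : Fact (Nat.Prime 5) := ⟨by norm_num⟩
      obtain ⟨e'⟩ := S0253.result (F := ZMod 5) (by simp)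
      exact H936.List12.lie_of_isL (m := 2) (q := 5) (by norm_num) dvd_rfl le_rfl (fun _ => by norm_num)
        ⟨ZMod 5, inferInstance, inferInstance, by simp, ⟨e.trans e'.symm⟩⟩
    · exact (row_a5 h hp5 he).elim
  · by_cases hp3 : p = 3
    · exfalso
      apply hL
      subst hp3
      obtain ⟨e⟩ := he
      obtain ⟨K, i1, i2, hK, -, he'⟩ := H937.T2.exists_nine e
      exact H936.List12.lie_of_isL (m := 2) (q := 9) (by norm_num) (by norm_num) le_rfl (fun _ => by norm_num)
        ⟨K, i1, i2, hK, he'⟩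
    · exact (row_a6 h hp3 he).elim
  · exact (r7 he).elim
  · obtain ⟨e⟩ := he
    have h82 : ¬ (m = 8 ∧ p = 2) := by
      rintro ⟨rfl, rfl⟩
      apply hL
      obtain ⟨e'⟩ := S0256.result (F := ZMod 2) (by simp)
      exact H936.List12.lie_of_isL (m := 4) (q := 2) (by norm_num) dvd_rfl (by norm_num) (by norm_num)
        ⟨ZMod 2, inferInstance, inferInstance, by simp, ⟨e.trans e'.symm⟩⟩
    exact row_alt h h8 h82 e

/-- `L₂(q)` -/
theorem cross_l2 (h : Cx p Q H P) {q : ℕ} (hq : q ∈ ({7, 8, 11, 13, 17, 19, 23, 25} : Finset ℕ)) (hpq : ¬ p ∣ q)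
    (hT : IsL 2 q (Soc P)) : Concl Q P p := by
  obtain ⟨K, iF, iT, hK, ⟨e⟩⟩ := hT
  have hq5 : 5 ≤ q ∧ q ≠ 9 := by
    simp only [Finset.mem_insert, Finset.mem_singleton] at hq
    omega
  exact row_l2 h (by omega) (by omega) (by rwa [hK]) e

/-- **Cross characteristic.** -/
theorem cross (h : Cx p Q H P) (hc : CandD p 12 (Soc P)) (hL : ¬ IsLieTypeChar p (Soc P))
    (r7 : Nonempty (Soc P ≃* alternatingGroup (Fin 7)) → False)
    (rm22 : p ≠ 2 → Spor.IsoM22 (Soc P) → False) : Concl Q P p := by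
  have := Fact.mk h.prime
  have := h.char
  rcases hc with hc | hc | hc | ⟨hp2, -, hT⟩ | hc
  · exact cross_alt h hc hL r7
  · rcases hc with ⟨q, hq, hpq, -, hT⟩ | ⟨hp, -, hT⟩ | ⟨hp, -, hT⟩ | ⟨hp, -, hT⟩ | ⟨hp2, hp3, -, hT⟩ | ⟨hp, -, hT⟩ |
      ⟨hp, -, hT⟩ | ⟨hp, -, hT⟩ | ⟨hp, -, hT⟩
    · exact cross_l2 h hq hpq hT
    · exact row_l33 h hp hT
    · exact (row_u33 h hp hT).elim
    · exact (row_u34 h hp hT).elim
    · exact (row_u42 h hp2 hp3 hT).elim
    · exact (row_u52 h hp hT).elim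
    · exact (row_s45 h hp hT).elim
    · exact (row_s62 h hp hT).elim
    · exact (row_o82 h hp hT).elim
  · rcases hc with ⟨hp, -, hT | hT | ⟨hp3, hT⟩ | hT | hT | hT⟩ | ⟨hp, -, hT⟩
    · refine cross_l2 h (q := 7) (by decide) ?_ hT
      intro h7
      exact hL (H936.List12.lie_of_isL (m := 2) (q := 7) h.prime h7 le_rfl (fun _ => by norm_num) hT)
    · exact (row_l34 h hp hT).elim
    · exact (row_u42 h hp hp3 hT).elim
    · exact (row_s62 h hp hT).elim
    · exact (row_o82 h hp hT).elim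
    · exact (row_g24 h hp hT).elim
    · exact (row_u43 h hp hT).elim
  · exact (row_sz h hp2 hT).elim
  · rcases hc with hT | hT | hT | hT | hT | hT | hT | hT | hT
    · exact (MEl.m11_twelve h.core p hT (by rw [Fintype.card_fin])).elim
    · exact row_m12 h hT
    · by_cases hp2 : p = 2
      · exfalso
        subst hp2
        obtain ⟨e⟩ := hT
        have h1 := (H921.M22.six_of_sd e h.core c12 h.sd).1
        rw [Fintype.card_fin] at h1
        omega
      · exact (rm22 hp2 hT).elim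
    · obtain ⟨e⟩ := hT
      have h1 := (H4.LDM.Stage.m23_low h.core e p c12).2.1
      rw [Fintype.card_fin] at h1
      omega
    · obtain ⟨e⟩ := hT
      have h1 := (H4.LDM.Stage.m24_low h.core e p c12).2.1
      rw [Fintype.card_fin] at h1
      omega
    · exfalso
      by_cases hp11 : p = 11
      · subst hp11
        have h0 : (11 : F) = 0 := by exact_mod_cast CharP.cast_eq_zero F 11
        have h1 := H179.JOne.j1_le12_iso h.core hT h0 c12
        rw [Fintype.card_fin] at h1
        omega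
      · exact H659.J1.not_core h.core hT p hp11 c12
    · exact (H905.JD.J2_twelve_all h.core hT (by rw [Fintype.card_fin])).elim
    · have h1 := (H95.JT.j3 p h.core hT c12).2.1
      rw [Fintype.card_fin] at h1
      omega
    · exfalso
      obtain ⟨e⟩ := hT
      by_cases hp3 : p = 3
      · subst hp3
        exact (H878.Sz.core_Suz_three h.core e c12).2.2.2.2.2 h.fixQ
      · exact H878.Sz.core_Suz_not_sd h.core e c12 p hp3 h.sd

end Cfsg.Agent.H114.O12
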