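import Cfsg.Agent.H13.M22.Twelve
import Cfsg.Agent.H921.M22.Two
import Cfsg.Agent.H937.T2Rep

/-!
# The Mathieu group of degree 22 has no core of dimension 12 in odd characteristic (helper114)

Wrapper around `H13.M22.twelve_false` (helper13).
-/

set_option autoImplicit false
set_option linter.unusedSectionVars false

namespace Cfsg.Agent.H114.O12

open Cfsg Cfsg.Geo Matrix Module Cfsg.Agent.H915.LD
open Cfsg.Agent.H911.Five (rep rep_irr trace_rep rep_injective)

universe u

variable {ι : Type} [Fintype ι] [DecidableEq ι] {F : Type u} [Field F] [Finite F] {P : Subgroup (GL ι F)}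

/-- **The Mathieu group of degree 22.** -/
theorem m22_twelve (hC : Core P) (p : ℕ) [hp : Fact p.Prime] [CharP F p] (hp2 : p ≠ 2) (h : Spor.IsoM22 (Soc P))
    (hn : Fintype.card ι = 12) : False := by
  obtain ⟨e⟩ := h
  have : Finite P := inferInstance
  have hcl : CharP (AlgebraicClosure F) p := charP_of_injective_algebraMap (algebraMap F _).injective p
  have h2 : (2 : AlgebraicClosure F) ≠ 0 := by
    intro h0
    have h1 : ((2 : ℕ) : AlgebraicClosure F) = 0 := by exact_mod_cast h0
    rw [CharP.cast_eq_zero_iff _ p, Nat.prime_dvd_prime_iff_eq hp.out Nat.prime_two] at h1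
    exact hp2 h1
  refine H13.M22.twelve_false (φ := H921.M22.ph e) (ρ := rep P) ⟨H921.M22.ph_surj e, H921.M22.ph_cen e, ?_, ?_, ?_⟩ h2
    (by rw [Module.finrank_fintype_fun_eq_card, hn])
  · exact (H921.M22.dat e hC).scal
  · exact rep_injective P
  · rw [ker_comp e]
    intro h0
    rw [CharP.cast_eq_zero_iff _ p] at h0
    exact H937.T2.not_dvd_scalars_char p h0

end Cfsg.Agent.H114.O12
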