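import Cfsg.Agent.H114.O12.Cross
import Cfsg.Agent.H114.O12.MTwo
import Cfsg.Agent.H906.A7Twelve
import Cfsg.Agent.H935.A7Q.Main
import Cfsg.Agent.H922.Own12Rows

/-!
# S5872 and S5875: the final theorem (helper114)
-/

set_option autoImplicit false
set_option linter.unusedSectionVars false

namespace Cfsg.Agent.H114.O12

open Cfsg Cfsg.Geo Matrix Cfsg.Agent.H915.LD

universe u

variable {F : Type u} [Field F] [Fintype F]

theorem row_a7 {p : ℕ} {Q : (Fin 12 → F) → F} {H P : Subgroup (GL (Fin 12) F)} (h : Cx p Q H P)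
    (he : Nonempty (Soc P ≃* alternatingGroup (Fin 7))) : False := by
  obtain ⟨e⟩ := he
  have := Fact.mk h.prime
  have := h.char
  by_cases hbot : (scalars (Fin 12) F).subgroupOf P = ⊥
  · exact H906.A7T.a7_simple p h.core (by rw [Fintype.card_fin]) e hbot
  · obtain ⟨z, hz1⟩ := Subgroup.ne_bot_iff_exists_ne_one.1 hbot
    have hs : ((z : P) : GL (Fin 12) F) ∈ scalars (Fin 12) F := Subgroup.mem_subgroupOf.1 z.2
    have hz1' : ((z : P) : GL (Fin 12) F) ≠ 1 := fun h0 => hz1 (Subtype.ext (Subtype.ext h0))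
    rcases h.scalar_pm (z : P).2 hs with h1 | h1
    · exact hz1' (Units.ext h1)
    · have h2 : (2 : F) ≠ 0 := by
        intro h0
        apply hz1'
        apply Units.ext
        rw [h1]
        have h3 : (-1 : F) = 1 := by linear_combination (-1 : F) * h0
        ext i j
        rw [Units.val_one, Matrix.neg_apply, Matrix.one_apply]
        split_ifs
        · exact h3
        · rw [neg_zero]
      exact H935.A7Q.no_fixQ (by rw [Fintype.card_fin]) h.core e ⟨_, (z : P).2, h1⟩ h2 h.fixQ

/-- **The conclusion for a core.** -/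
theorem concl {p : ℕ} {Q : (Fin 12 → F) → F} {H P : Subgroup (GL (Fin 12) F)} (h : Cx p Q H P)
    (hk : IsKnownSimple' (Soc P)) : Concl Q P p := by
  have := Fact.mk h.prime
  have := h.char
  by_cases hL : IsLieTypeChar p (Soc P)
  · exact (H922.Own.dc_false h hL).elim
  · exact cross h (H936.List12.list₂ le_rfl h.core hk hL) hL (row_a7 h)
      (fun hp2 hT => m22_twelve h.core p hp2 hT (by rw [Fintype.card_fin]))

theorem final (hk : ∀ (T : Type u) [Group T] [Finite T] [IsSimpleGroup T], IsKnownSimple' T)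
    {Q : (Fin 12 → F) → F} (hQ : IsNondegenerateQuadraticForm Q) {H : Subgroup (GL (Fin 12) F)}
    (hH : IsMaximalIn (omegaGL Q) H) (hS : InOrthogonalResidualClass H) :
    ∃ (P : Subgroup (GL (Fin 12) F)) (p : ℕ), IsResidualCore H P ∧ p.Prime ∧ CharP F p ∧ Concl Q P p := by
  obtain ⟨P, hc, -⟩ := hS
  obtain ⟨p, hp⟩ := CharP.exists F
  have hpp := CharP.char_is_prime F p
  have h : Cx p Q H P := ⟨hpp, hp, hQ, hH, hc⟩
  have := h.core.simple
  exact ⟨P, p, hc, hpp, hp, concl h (hk (Soc P))⟩

end Cfsg.Agent.H114.O12
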