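import Cfsg.Agent.H114.TyNum

/-!
# Residues for S5872 and S5875 (helper114)
-/

set_option autoImplicit false

namespace Cfsg.Agent.H114.O12

theorem sq11 : ∀ r : Fin 11, (IsSquare ((r : ℕ) : ZMod 11) → (r : ℕ) ≠ 0 →
    ((r : ℕ) = 1 ∨ (r : ℕ) = 3 ∨ (r : ℕ) = 4 ∨ (r : ℕ) = 5 ∨ (r : ℕ) = 9)) ∧
  (¬ IsSquare ((r : ℕ) : ZMod 11) →
    ((r : ℕ) = 2 ∨ (r : ℕ) = 6 ∨ (r : ℕ) = 7 ∨ (r : ℕ) = 8 ∨ (r : ℕ) = 10)) := by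
  decide

theorem mod11 (p : ℕ) (h11 : p % 11 ≠ 0) :
    (IsSquare (p : ZMod 11) → (p % 11 = 1 ∨ p % 11 = 3 ∨ p % 11 = 4 ∨ p % 11 = 5 ∨ p % 11 = 9)) ∧
    (¬ IsSquare (p : ZMod 11) → (p % 11 = 2 ∨ p % 11 = 6 ∨ p % 11 = 7 ∨ p % 11 = 8 ∨ p % 11 = 10)) := by
  have h := sq11 ⟨p % 11, Nat.mod_lt _ (by norm_num)⟩
  have h3 : ((p % 11 : ℕ) : ZMod 11) = (p : ZMod 11) := ZMod.natCast_mod p 11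
  simp only [h3] at h
  exact ⟨fun a => h.1 a h11, h.2⟩

theorem mod55 (p : ℕ) (h11 : p % 11 ≠ 0) :
    (p % 5 = 1 → IsSquare (p : ZMod 11) → (p % 55 = 1 ∨ p % 55 = 16 ∨ p % 55 = 36 ∨ p % 55 = 31 ∨ p % 55 = 26)) ∧
    (p % 5 = 4 → ¬ IsSquare (p : ZMod 11) → (p % 55 = 54 ∨ p % 55 = 39 ∨ p % 55 = 19 ∨ p % 55 = 24 ∨ p % 55 = 29)) ∧
    (p % 5 = 1 → ¬ IsSquare (p : ZMod 11) → (p % 55 = 51 ∨ p % 55 = 6 ∨ p % 55 = 46 ∨ p % 55 = 41 ∨ p % 55 = 21)) ∧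
    (p % 5 = 4 → IsSquare (p : ZMod 11) → (p % 55 = 4 ∨ p % 55 = 49 ∨ p % 55 = 9 ∨ p % 55 = 14 ∨ p % 55 = 34)) := by
  have h := mod11 p h11
  refine ⟨fun a b => ?_, fun a b => ?_, fun a b => ?_, fun a b => ?_⟩
  · have := h.1 b
    omega
  · have := h.2 b
    omega
  · have := h.2 b
    omega
  · have := h.1 b
    omega

theorem sq13' : ∀ r : Fin 13, (IsSquare ((r : ℕ) : ZMod 13) → (r : ℕ) ≠ 0 →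
    ((r : ℕ) = 1 ∨ (r : ℕ) = 12 ∨ (r : ℕ) = 3 ∨ (r : ℕ) = 10 ∨ (r : ℕ) = 4 ∨ (r : ℕ) = 9)) ∧
  (¬ IsSquare ((r : ℕ) : ZMod 13) →
    ((r : ℕ) = 2 ∨ (r : ℕ) = 11 ∨ (r : ℕ) = 5 ∨ (r : ℕ) = 8 ∨ (r : ℕ) = 6 ∨ (r : ℕ) = 7)) := by
  decide

theorem mod13 (p : ℕ) (h13 : p % 13 ≠ 0) :
    (IsSquare (p : ZMod 13) → (p % 13 = 1 ∨ p % 13 = 12 ∨ p % 13 = 3 ∨ p % 13 = 10 ∨ p % 13 = 4 ∨ p % 13 = 9)) ∧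
    (¬ IsSquare (p : ZMod 13) → (p % 13 = 2 ∨ p % 13 = 11 ∨ p % 13 = 5 ∨ p % 13 = 8 ∨ p % 13 = 6 ∨ p % 13 = 7)) := by
  have h := sq13' ⟨p % 13, Nat.mod_lt _ (by norm_num)⟩
  have h3 : ((p % 13 : ℕ) : ZMod 13) = (p : ZMod 13) := ZMod.natCast_mod p 13
  simp only [h3] at h
  exact ⟨fun a => h.1 a h13, h.2⟩

theorem sq91p : ∀ r : Fin 91, ((r : ℕ) % 7 = 2 ∨ (r : ℕ) % 7 = 3 ∨ (r : ℕ) % 7 = 4 ∨ (r : ℕ) % 7 = 5) →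
    ((r : ℕ) % 13 = 1 ∨ (r : ℕ) % 13 = 12 ∨ (r : ℕ) % 13 = 3 ∨ (r : ℕ) % 13 = 10 ∨ (r : ℕ) % 13 = 4 ∨
      (r : ℕ) % 13 = 9) →
    ((r : ℕ) = 3 ∨ (r : ℕ) = 88 ∨ (r : ℕ) = 4 ∨ (r : ℕ) = 87 ∨ (r : ℕ) = 9 ∨ (r : ℕ) = 82 ∨ (r : ℕ) = 10 ∨
      (r : ℕ) = 81 ∨ (r : ℕ) = 12 ∨ (r : ℕ) = 79 ∨ (r : ℕ) = 16 ∨ (r : ℕ) = 75 ∨ (r : ℕ) = 17 ∨ (r : ℕ) = 74 ∨
      (r : ℕ) = 23 ∨ (r : ℕ) = 68 ∨ (r : ℕ) = 25 ∨ (r : ℕ) = 66 ∨ (r : ℕ) = 30 ∨ (r : ℕ) = 61 ∨ (r : ℕ) = 38 ∨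
      (r : ℕ) = 53 ∨ (r : ℕ) = 40 ∨ (r : ℕ) = 51) := by
  decide

theorem sq91m : ∀ r : Fin 91, ((r : ℕ) % 7 = 2 ∨ (r : ℕ) % 7 = 3 ∨ (r : ℕ) % 7 = 4 ∨ (r : ℕ) % 7 = 5) →
    ((r : ℕ) % 13 = 2 ∨ (r : ℕ) % 13 = 11 ∨ (r : ℕ) % 13 = 5 ∨ (r : ℕ) % 13 = 8 ∨ (r : ℕ) % 13 = 6 ∨
      (r : ℕ) % 13 = 7) →
    ((r : ℕ) = 2 ∨ (r : ℕ) = 89 ∨ (r : ℕ) = 5 ∨ (r : ℕ) = 86 ∨ (r : ℕ) = 11 ∨ (r : ℕ) = 80 ∨ (r : ℕ) = 18 ∨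
      (r : ℕ) = 73 ∨ (r : ℕ) = 19 ∨ (r : ℕ) = 72 ∨ (r : ℕ) = 24 ∨ (r : ℕ) = 67 ∨ (r : ℕ) = 31 ∨ (r : ℕ) = 60 ∨
      (r : ℕ) = 32 ∨ (r : ℕ) = 59 ∨ (r : ℕ) = 33 ∨ (r : ℕ) = 58 ∨ (r : ℕ) = 37 ∨ (r : ℕ) = 54 ∨ (r : ℕ) = 44 ∨
      (r : ℕ) = 47 ∨ (r : ℕ) = 45 ∨ (r : ℕ) = 46) := by
  decide

theorem mod91p (p : ℕ) (h7 : p % 7 = 2 ∨ p % 7 = 3 ∨ p % 7 = 4 ∨ p % 7 = 5)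
    (h13 : p % 13 = 1 ∨ p % 13 = 12 ∨ p % 13 = 3 ∨ p % 13 = 10 ∨ p % 13 = 4 ∨ p % 13 = 9) :
    (p % 91 = 3 ∨ p % 91 = 88 ∨ p % 91 = 4 ∨ p % 91 = 87 ∨ p % 91 = 9 ∨ p % 91 = 82 ∨ p % 91 = 10 ∨ p % 91 = 81 ∨ p % 91 = 12 ∨ p % 91 = 79 ∨ p % 91 = 16 ∨ p % 91 = 75 ∨ p % 91 = 17 ∨ p % 91 = 74 ∨ p % 91 = 23 ∨ p % 91 = 68 ∨ p % 91 = 25 ∨ p % 91 = 66 ∨ p % 91 = 30 ∨ p % 91 = 61 ∨ p % 91 = 38 ∨ p % 91 = 53 ∨ p % 91 = 40 ∨ p % 91 = 51) := by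
  have h := sq91p ⟨p % 91, Nat.mod_lt _ (by norm_num)⟩
  have h1 : p % 91 % 7 = p % 7 := Nat.mod_mod_of_dvd p (by norm_num)
  have h2 : p % 91 % 13 = p % 13 := Nat.mod_mod_of_dvd p (by norm_num)
  simp only [h1, h2] at h
  exact h h7 h13

theorem mod91m (p : ℕ) (h7 : p % 7 = 2 ∨ p % 7 = 3 ∨ p % 7 = 4 ∨ p % 7 = 5)
    (h13 : p % 13 = 2 ∨ p % 13 = 11 ∨ p % 13 = 5 ∨ p % 13 = 8 ∨ p % 13 = 6 ∨ p % 13 = 7) :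
    (p % 91 = 2 ∨ p % 91 = 89 ∨ p % 91 = 5 ∨ p % 91 = 86 ∨ p % 91 = 11 ∨ p % 91 = 80 ∨ p % 91 = 18 ∨ p % 91 = 73 ∨ p % 91 = 19 ∨ p % 91 = 72 ∨ p % 91 = 24 ∨ p % 91 = 67 ∨ p % 91 = 31 ∨ p % 91 = 60 ∨ p % 91 = 32 ∨ p % 91 = 59 ∨ p % 91 = 33 ∨ p % 91 = 58 ∨ p % 91 = 37 ∨ p % 91 = 54 ∨ p % 91 = 44 ∨ p % 91 = 47 ∨ p % 91 = 45 ∨ p % 91 = 46) := by
  have h := sq91m ⟨p % 91, Nat.mod_lt _ (by norm_num)⟩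
  have h1 : p % 91 % 7 = p % 7 := Nat.mod_mod_of_dvd p (by norm_num)
  have h2 : p % 91 % 13 = p % 13 := Nat.mod_mod_of_dvd p (by norm_num)
  simp only [h1, h2] at h
  exact h h7 h13

end Cfsg.Agent.H114.O12
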