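import Cfsg.Agent.H114.O12.Base
import Cfsg.Agent.H114.O12.Num
import Cfsg.Agent.H114.TyL2Two
import Cfsg.Agent.H114.TyWeil
import Cfsg.Agent.H114.RtThirteen
import Cfsg.Agent.H464.L2Num
import Cfsg.Agent.H830.Sl2Type
import Cfsg.Agent.H912.FiveList

/-!
# The rows `L₂(q)` of S5872 and S5875, cross characteristic (helper114)
-/

set_option autoImplicit false
set_option linter.unusedSectionVars false

namespace Cfsg.Agent.H114.O12

open Cfsg Cfsg.Geo Matrix Cfsg.Agent.H915.LD Cfsg.Agent.H464.Sl2 Cfsg.Agent.H114.Ty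

universe u v

variable {F : Type u} [Field F] [Fintype F] {p : ℕ} {Q : (Fin 12 → F) → F} {H P : Subgroup (GL (Fin 12) F)}

theorem Cx.fixρ (h : Cx p Q H P) {G : Type*} [Group G] {ρ : G →* GL (Fin 12) F} (hρ : ρ.range = P) (g : G)
    (v : Fin 12 → F) : Q ((ρ g : Matrix (Fin 12) (Fin 12) F) *ᵥ v) = Q v :=
  H933.O10.fix_of_mem_omegaGL (h.le_omega (by rw [← hρ]; exact ⟨g, rfl⟩)) v

theorem two_ne (h : Cx p Q H P) (h2 : p ≠ 2) : (2 : F) ≠ 0 := by
  have := h.char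
  intro h3
  have h4 : ((2 : ℕ) : F) = 0 := by exact_mod_cast h3
  rw [CharP.cast_eq_zero_iff F p] at h4
  exact h2 ((Nat.prime_dvd_prime_iff_eq h.prime Nat.prime_two).1 h4)

theorem cast_ne (h : Cx p Q H P) {r : ℕ} (hr : r.Prime) (hpr : p ≠ r) : (r : F) ≠ 0 := by
  have := h.char
  intro h4
  rw [CharP.cast_eq_zero_iff F p] at h4
  exact hpr ((Nat.prime_dvd_prime_iff_eq h.prime hr).1 h4)

theorem mod_ne {r : ℕ} (hp : p.Prime) (hr : r.Prime) (hpr : p ≠ r) : p % r ≠ 0 := fun h =>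
  hpr.symm ((Nat.prime_dvd_prime_iff_eq hr hp).1 (Nat.dvd_of_mod_eq_zero h))

/-- **`L₂(11)`.** -/
theorem row_eleven (h : Cx p Q H P) {K : Type} [Field K] [Fintype K] (hK : Fintype.card K = 11)
    (hp11 : p ≠ 11) (e : Soc P ≃* ProjectiveSpecialLinearGroup (Fin 2) K) : Concl Q P p := by
  have hpF := Fact.mk h.prime
  have := h.char
  have hC := h.core
  have he : Nonempty (Soc P ≃* ProjectiveSpecialLinearGroup (Fin 2) (ZMod 11)) :=
    H912.Five.psl_zmod (by norm_num) ⟨K, inferInstance, inferInstance, hK, ⟨e⟩⟩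
  obtain ⟨ρ, hρ, hρ1, hspan⟩ := Ty.setup hC (by omega) (by omega) e
  obtain ⟨hp5, -, hF⟩ := l2_11_12 p hC hK hp11 e (by rw [Fintype.card_fin])
  have hm := mod55 p (mod_ne h.prime (by norm_num) hp11)
  have key : (IsPlusTypeOn Q ⊤ → Fintype.card F = p ∧
      ((p % 5 = 1 ∧ IsSquare (p : ZMod 11)) ∨ (p % 5 = 4 ∧ ¬ IsSquare (p : ZMod 11)))) ∧
      (¬ IsPlusTypeOn Q ⊤ → (Fintype.card F = p ∧
      ((p % 5 = 1 ∧ ¬ IsSquare (p : ZMod 11)) ∨ (p % 5 = 4 ∧ IsSquare (p : ZMod 11)))) ∨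
        (Fintype.card F = p ^ 2 ∧ (p % 5 = 2 ∨ p % 5 = 3))) := by
    by_cases hp2 : p = 2
    · subst hp2
      rcases hF with ⟨-, h1⟩ | ⟨hF, h1⟩
      · omega
      · have h3 := not_plus_eleven ρ hρ1 hspan hK (by rw [hF]; norm_num) h.hQ (h.fixρ hρ)
        exact ⟨fun h4 => absurd h4 h3, fun _ => Or.inr ⟨hF, h1⟩⟩
    · obtain ⟨c, d, hc, hc2, hd, hiff⟩ := plus_iff_plus ρ hρ1 hspan (by rw [hK]; norm_num) (by rw [hK]; decide)
        (by rw [hK]; exact cast_ne h (by norm_num) hp11) (by rw [hK]) (m := 6) (by norm_num) (two_ne h hp2) h.hQ (h.fixρ hρ)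
      rw [hK] at hc hd
      have hd' : algebraMap F (AlgebraicClosure F) d = - (11 * (c - c⁻¹) ^ 2) := by
        rw [hd]
        push_cast
        ring
      rw [hiff]
      rcases hF with ⟨hF, h1⟩ | ⟨hF, h1⟩
      · rcases eleven_prime hp2 hp11 hc hc2 hd' hF with ⟨h3, h4⟩ | ⟨h3, h4⟩ | h3
        · rw [h4]
          exact ⟨fun h5 => ⟨hF, Or.inl ⟨h3, h5⟩⟩, fun h5 => Or.inl ⟨hF, Or.inl ⟨h3, h5⟩⟩⟩
        · rw [h4]
          exact ⟨fun h5 => ⟨hF, Or.inr ⟨h3, h5⟩⟩, fun h5 => Or.inl ⟨hF, Or.inr ⟨h3, not_not.1 h5⟩⟩⟩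
        · omega
      · have h3 := eleven_sq hp2 hp11 hc hc2 hd' hF h1
        exact ⟨fun h4 => absurd h4 h3, fun _ => Or.inr ⟨hF, h1⟩⟩
  obtain ⟨m1, m2, m3, m4⟩ := hm
  refine ⟨fun hplus => Or.inl ⟨he, (key.1 hplus).1, ?_⟩, fun hminus => Or.inl ⟨he, ?_⟩⟩
  · rcases (key.1 hplus).2 with ⟨h1, h2⟩ | ⟨h1, h2⟩
    · have := m1 h1 h2
      omega
    · have := m2 h1 h2
      omega
  · rcases key.2 hminus with ⟨hF, ⟨h1, h2⟩ | ⟨h1, h2⟩⟩ | h1
    · refine Or.inl ⟨hF, ?_⟩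
      have := m3 h1 h2
      omega
    · refine Or.inl ⟨hF, ?_⟩
      have := m4 h1 h2
      omega
    · exact Or.inr h1

/-- **`L₂(13)`.** -/
theorem row_thirteen (h : Cx p Q H P) {K : Type} [Field K] [Fintype K] (hK : Fintype.card K = 13)
    (hp13 : p ≠ 13) (e : Soc P ≃* ProjectiveSpecialLinearGroup (Fin 2) K) : Concl Q P p := by
  have hpF := Fact.mk h.prime
  have := h.char
  have hC := h.core
  have he : Nonempty (Soc P ≃* ProjectiveSpecialLinearGroup (Fin 2) (ZMod 13)) :=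
    H912.Five.psl_zmod (by norm_num) ⟨K, inferInstance, inferInstance, hK, ⟨e⟩⟩
  obtain ⟨ρ, hρ, hρ1, hspan⟩ := Ty.setup hC (by omega) (by omega) e
  obtain ⟨-, hF⟩ := l2_13_12 p hC hK hp13 e (by rw [Fintype.card_fin])
  have hp7 : p ≠ 7 := by
    rintro rfl
    obtain ⟨e'⟩ := he
    exact Rt.not_thirteen h.hQ h.hH h.hc e'
  have hF' : (Fintype.card F = p ∧ (p % 7 = 1 ∨ p % 7 = 6)) ∨
      (Fintype.card F = p ^ 3 ∧ (p % 7 = 2 ∨ p % 7 = 3 ∨ p % 7 = 4 ∨ p % 7 = 5)) := by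
    rcases hF with ⟨hF, h1 | h1 | h1⟩ | hF
    · exact Or.inl ⟨hF, Or.inl h1⟩
    · exact Or.inl ⟨hF, Or.inr h1⟩
    · exact absurd h1 hp7
    · exact Or.inr hF
  have hm := mod13 p (mod_ne h.prime (by norm_num) hp13)
  have key : IsPlusTypeOn Q ⊤ ↔ IsSquare (p : ZMod 13) := by
    by_cases hp2 : p = 2
    · subst hp2
      have h3 := not_plus_thirteen ρ hρ1 hspan hK (by
        rcases hF' with ⟨h3, -⟩ | ⟨h3, -⟩
        · exact Or.inl h3
        · exact Or.inr (by rw [h3]; norm_num)) h.hQ (h.fixρ hρ)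
      have h4 : ¬ IsSquare ((2 : ℕ) : ZMod 13) := by decide
      exact ⟨fun h5 => absurd h5 h3, fun h5 => absurd h5 h4⟩
    · rw [plus_iff_minus ρ hρ1 hspan (by rw [hK]; norm_num) (by rw [hK]; decide)
        (by rw [hK]; exact cast_ne h (by norm_num) hp13) (by rw [hK]) (m := 6) (by norm_num) (two_ne h hp2) h.hQ (h.fixρ hρ)
        (by rw [hK]; norm_num), hK]
      have h3 : ((-1 : F)) ^ 6 * ((13 : ℕ) : F) = ((13 : ℕ) : F) := by norm_num
      rw [h3]
      have h4 : IsSquare ((13 : ℕ) : F) ↔ IsSquare ((13 : ℕ) : ZMod p) := by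
        rcases hF' with ⟨h5, -⟩ | ⟨h5, -⟩
        · exact isSquare_natCast_iff (k := 0) h.prime hp2 (by rw [h5]; ring) 13 (cast_ne h (by norm_num) hp13)
        · exact isSquare_natCast_iff (k := 1) h.prime hp2 (by rw [h5]) 13 (cast_ne h (by norm_num) hp13)
      rw [h4]
      exact_mod_cast isSquare_thirteen hp2
  refine ⟨fun hplus => Or.inr (Or.inl ⟨he, ?_⟩), fun hminus => Or.inr (Or.inl ⟨he, ?_⟩)⟩
  · have h1 := hm.1 (key.1 hplus)
    rcases hF' with ⟨h3, h4⟩ | ⟨h3, h4⟩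
    · exact Or.inl ⟨h3, h4, h1⟩
    · exact Or.inr ⟨h3, mod91p p h4 h1⟩
  · have h1 := hm.2 (fun h5 => hminus (key.2 h5))
    rcases hF' with ⟨h3, h4⟩ | ⟨h3, h4⟩
    · exact Or.inl ⟨h3, h4, h1⟩
    · exact Or.inr ⟨h3, mod91m p h4 h1⟩

/-- **`L₂(25)`.** -/
theorem row_twentyfive (h : Cx p Q H P) {K : Type} [Field K] [Fintype K] (hK : Fintype.card K = 25)
    (hp5 : p ≠ 5) (e : Soc P ≃* ProjectiveSpecialLinearGroup (Fin 2) K) : False := by
  have hpF := Fact.mk h.prime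
  have := h.char
  have hC := h.core
  have hpK : ¬ p ∣ Fintype.card K := not_dvd_card p (r := 5) (s := 2) (by norm_num) (by rw [hK]; norm_num) hp5
  obtain ⟨hbot, -, -⟩ := l2_25_12 p hC hK hp5 e (by rw [Fintype.card_fin])
  by_cases hp2 : p = 2
  · have hb := hbot.2 hp2
    obtain ⟨ρ, hρ, hρe⟩ := exists_rep hC.perfect (by omega) (by omega) (by omega) e
    have ht : ρ (t (-1)) = 1 := by
      refine (H830.Sl2Form.scalars_bot_iff ρ hρ hC.absIrred ?_).1 hb
      intro g hg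
      have h3 : ρ g ∈ P := by rw [← hρ]; exact ⟨g, rfl⟩
      have h4 := hρe g h3
      have h5 : (QuotientGroup.mk ⟨ρ g, h3⟩ : Soc P) = 1 := by
        rw [QuotientGroup.eq_one_iff, Subgroup.mem_subgroupOf]
        exact hg
      rw [h5, map_one] at h4
      exact (QuotientGroup.eq_one_iff g).1 h4.symm
    have hρ1 : ρ ≠ 1 := by
      intro h1
      rw [h1] at hρ
      apply hC.nonabelian
      have h3 : Subsingleton P := by
        constructor
        rintro ⟨a, ha⟩ ⟨b, hb⟩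
        rw [← hρ] at ha hb
        obtain ⟨x, rfl⟩ := ha
        obtain ⟨y, rfl⟩ := hb
        rfl
      have h2 : Subsingleton (P ⧸ (scalars (Fin 12) F).subgroupOf P) := by
        constructor
        intro a b
        induction a using QuotientGroup.induction_on with
        | H a =>
          induction b using QuotientGroup.induction_on with
          | H b => rw [Subsingleton.elim a b]
      exact ⟨⟨fun a b => Subsingleton.elim _ _⟩⟩
    exact no_quad ρ hC hρ hρ1 (by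
      apply span_eq_top
      rw [hρ]
      exact hC.absIrred) (by rw [hK]; decide)
      (fun h3 => hpK ((CharP.cast_eq_zero_iff F p _).1 h3)) (by rw [hK]) (by decide) (by norm_num) (by norm_num) ht h.fixQ
  · exact ((H830.Sl2Form.l2_type p hp2 hC (by omega) (by omega) hpK e).2 (fun h3 => hp2 (hbot.1 h3))).1 h.fixQ

/-- **`L₂(q)`, `p ∤ q`.** -/
theorem row_l2 (h : Cx p Q H P) {K : Type} [Field K] [Fintype K] (h5 : 5 ≤ Fintype.card K)
    (h9 : Fintype.card K ≠ 9) (hpK : ¬ p ∣ Fintype.card K) (e : Soc P ≃* ProjectiveSpecialLinearGroup (Fin 2) K) :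
    Concl Q P p := by
  have hpF := Fact.mk h.prime
  have := h.char
  have hC := h.core
  have hd := l2_degrees p hC h5 h9 hpK e (by rw [Fintype.card_fin])
  simp only [Fintype.card_fin] at hd
  rcases hd with ⟨hK, hd⟩ | ⟨hK, hd⟩ | ⟨hK, hd⟩ | ⟨hK, hd⟩ | ⟨hK, hd⟩ | ⟨hK, hd⟩ | ⟨hK, hd⟩ | ⟨hK, hd⟩ | ⟨hK, hd⟩
  · exact absurd hd (by decide)
  · exact absurd hd (by decide)
  · exact absurd hd (by decide)
  · refine row_eleven h hK ?_ e
    rintro rfl
    exact hpK (by rw [hK])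
  · refine row_thirteen h hK ?_ e
    rintro rfl
    exact hpK (by rw [hK])
  · exact absurd hd (by decide)
  · exact absurd hd (by decide)
  · have hp23 : p ≠ 23 := by
      rintro rfl
      exact hpK (by rw [hK])
    exact absurd h.sd (l2_23_12 p hC hK hp23 e (by rw [Fintype.card_fin])).2.1
  · refine (row_twentyfive h hK ?_ e).elim
    rintro rfl
    exact hpK (by rw [hK]; norm_num)

end Cfsg.Agent.H114.O12
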