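import Cfsg.Agent.H6.M11.Main11
import Cfsg.Agent.H882.Sc.Core

/-!
# The Mathieu group of degree 11 has no core of dimension 12 (helper114)

`m11_twelve` : `P ≤ GL_ι(F)` a core, `Soc P ≃* M₁₁`, `card ι = 12`: contradiction (every characteristic).

Characteristic `≠ 3`: the weights of the elementary abelian group of order 9 are permuted regularly by an element of
order 8, so elements of order 3 fix a space of dimension 6 and elements of order 8 fix a vector; Scott's lemma for a
generating triple of type `(3, 3, 8)`.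
-/

set_option autoImplicit false
set_option linter.unusedSectionVars false
set_option maxRecDepth 100000

namespace Cfsg.Agent.H114.O12.MEl

open Module Cfsg Cfsg.Geo Cfsg.Agent.H637.JW Cfsg.Agent.H915.LD Cfsg.Agent.H882.Dim Cfsg.Agent.H882.Sc
open Cfsg.Agent.H6.M11 (v11 vH sat_11 closure_11 ev_vH M11_le exists_letters m11_three v11_zero_ne)
open Cfsg.Agent.CoThreeStd.MTwelve (eqW wd_eq)

universe u

/-- value of a word in the letters -/
def w (l : List ℕ) : Spor.M11 := H6.M11.ev v11 l

theorem w_def (l : List ℕ) : w l = H6.M11.ev v11 l := rfl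

theorem w_nil : w [] = 1 := rfl

theorem w_one (i : ℕ) : w [i] = v11 i := by simp [w, H6.M11.ev]

theorem w_append (l l' : List ℕ) : w (l ++ l') = w l * w l' := H6.M11.ev_append v11 l l'

theorem weq {l l' : List ℕ} (h : eqW (l.flatMap H6.M11.W) (l'.flatMap H6.M11.W) = true) : w l = w l' := by
  apply Subgroup.inclusion_injective M11_le
  have h1 : ∀ l, Subgroup.inclusion M11_le (w l) = H6.M11.ev vH l := fun l => H6.M11.map_ev v11 _ l
  rw [h1, h1, ev_vH, ev_vH]
  exact wd_eq h

theorem weq1 {l : List ℕ} (h : eqW (l.flatMap H6.M11.W) [] = true) : w l = 1 := weq (l' := []) h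

theorem weq2 {a b c d : List ℕ} (h : eqW ((a ++ b).flatMap H6.M11.W) ((c ++ d).flatMap H6.M11.W) = true) :
    w a * w b = w c * w d := by
  rw [← w_append, ← w_append]
  exact weq h

attribute [irreducible] w

/-- the elements `x, y` of order 3 -/
def X : List ℕ := [0]
def Y : List ℕ := [3, 6, 3, 2, 0, 2, 2, 2, 2, 2, 2, 2, 3, 6, 6, 6, 6, 3]


/-- words in `x, y` -/
def sub (l : List Bool) : List ℕ := l.flatMap fun b => if b then Y else X

theorem ev_sub (l : List Bool) : H882.Sc.ev (w X) (w Y) l = w (sub l) := by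
  induction l with
  | nil => exact w_nil.symm
  | cons b l ih =>
    have h1 : H882.Sc.ev (w X) (w Y) (b :: l) = (if b then w Y else w X) * H882.Sc.ev (w X) (w Y) l := by
      simp [H882.Sc.ev]
    have h2 : sub (b :: l) = (if b then Y else X) ++ sub l := by simp [sub]
    rw [h1, h2, w_append, ih]
    cases b <;> rfl

theorem gen : Subgroup.closure ({w X, w Y} : Set Spor.M11) = ⊤ := by
  rw [eq_top_iff, ← closure_11, Subgroup.closure_le]
  have h5 : w [5] = H882.Sc.ev (w X) (w Y) [true, true, false, true, false, true, true, false, true, true] := by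
    rw [ev_sub]
    exact weq (by decide +kernel)
  have h8 : w [8] = H882.Sc.ev (w X) (w Y)
      [false, true, false, false, true, false, true, false, true, false, true, false, false, true, true] := by
    rw [ev_sub]
    exact weq (by decide +kernel)
  rintro g (rfl | hg)
  · rw [← w_one, h5]
    exact ev_mem _ _ _
  · rw [Set.mem_singleton_iff.1 hg, ← w_one, h8]
    exact ev_mem _ _ _

/-- the action on the weights -/
def M (d : Fin 2 → ZMod 3) : Fin 2 → ZMod 3 := ![d 0 + d 1, d 0 + d 0 + d 1]

theorem trans (d d' : Fin 2 → ZMod 3) (h : d ≠ 0) (h' : d' ≠ 0) : ∃ i : Fin 8, d' = M^[i] d := by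
  revert d d'
  decide +kernel

theorem inj : Function.Injective fun i : Fin 8 => M^[i] ![0, 1] := by
  decide +kernel

section

variable {K : Type*} [Field K] [IsAlgClosed K] {V : Type*} [AddCommGroup V] [Module K V] [FiniteDimensional K V]
  {σ : Spor.M11 →* Module.End K V}

/-- the inverse of the element of order 8 -/
abbrev yi : List ℕ := [2, 2, 2, 2, 2, 2, 2]

theorem step {ζ : K} (hζ : ζ ^ 3 = 1) {d : Fin 2 → ZMod 3} {v : V}
    (hv : v ∈ W 3 ζ (fun k : Fin 2 => σ (w [k.val])) d) : σ (w yi) v ∈ W 3 ζ (fun k : Fin 2 => σ (w [k.val])) (M d) := by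
  rw [mem_W] at hv ⊢
  have h0 : σ (w [0]) v = ζ ^ (d 0).val • v := hv 0
  have h1 : σ (w [1]) v = ζ ^ (d 1).val • v := hv 1
  intro k
  fin_cases k
  · change σ (w [0]) (σ (w yi) v) = ζ ^ (d 0 + d 1).val • σ (w yi) v
    rw [← mul_apply', weq2 (a := [0]) (b := yi) (c := yi) (d := [0, 1]) (by decide +kernel), mul_apply',
      show w [0, 1] = w [0] * w [1] from w_append [0] [1], mul_apply', h1, map_smul, h0, map_smul, map_smul, smul_smul,
      pow_val_add hζ, mul_comm]
  · change σ (w [1]) (σ (w yi) v) = ζ ^ (d 0 + d 0 + d 1).val • σ (w yi) v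
    rw [← mul_apply', weq2 (a := [1]) (b := yi) (c := yi) (d := [0, 0, 1]) (by decide +kernel), mul_apply',
      show w [0, 0, 1] = w [0] * (w [0] * w [1]) by rw [← w_append, ← w_append]; rfl, mul_apply', mul_apply', h1,
      map_smul, h0, map_smul, map_smul, map_smul, h0, map_smul, map_smul, smul_smul, smul_smul,
      pow_val_add hζ, pow_val_add hζ]
    congr 1
    ring

theorem no12 (h3 : (3 : K) ≠ 0) (hI : Irr σ) (hV : finrank K V = 12) : False := by
  have h3' : ((3 : ℕ) : K) ≠ 0 := by exact_mod_cast h3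
  obtain ⟨ζ, hζ⟩ := exists_root (K := K) (N := 3) h3'
  set f : Fin 2 → Module.End K V := fun k => σ (w [k.val]) with hf
  have hc : ∀ j k, f j * f k = f k * f j := by
    intro j k
    simp only [hf, ← map_mul]
    congr 1
    fin_cases j <;> fin_cases k
    · rfl
    · exact weq2 (by decide +kernel)
    · exact weq2 (by decide +kernel)
    · rfl
  have hp : ∀ k, f k ^ 3 = 1 := by
    intro k
    simp only [hf, ← map_pow]
    have : w [k.val] ^ 3 = 1 := by
      rw [pow_succ, pow_succ, pow_one, ← w_append, ← w_append]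
      fin_cases k
      · exact weq1 (by decide +kernel)
      · exact weq1 (by decide +kernel)
    rw [this, map_one]
  have hsum := sum_W (V := V) h3' hζ hc hp
  have hle : ∀ d, finrank K (W 3 ζ f d) ≤ finrank K (W 3 ζ f (M d)) := fun d =>
    finrank_le_of_map (σ := σ) (w yi) fun v hv => step hζ.pow_eq_one hv
  have hle' : ∀ (i : ℕ) d, finrank K (W 3 ζ f d) ≤ finrank K (W 3 ζ f (M^[i] d)) := by
    intro i
    induction i with
    | zero => intro d; exact le_rfl
    | succ i ih =>
      intro d
      rw [Function.iterate_succ_apply']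
      exact (ih d).trans (hle _)
  set m := finrank K (W 3 ζ f ![0, 1]) with hm
  have hne : (![0, 1] : Fin 2 → ZMod 3) ≠ 0 := by decide
  have hall : ∀ d, d ≠ 0 → finrank K (W 3 ζ f d) = m := by
    intro d hd
    obtain ⟨i, hi⟩ := trans d ![0, 1] hd hne
    obtain ⟨j, hj⟩ := trans ![0, 1] d hne hd
    apply le_antisymm
    · rw [hm, hi]; exact hle' i d
    · exact (hle' j _).trans (le_of_eq (by rw [← hj]))
  have hsum2 : finrank K (W 3 ζ f 0) + 8 * m = 12 := by
    rw [← hV, ← hsum, ← Finset.add_sum_erase Finset.univ _ (Finset.mem_univ (0 : Fin 2 → ZMod 3))]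
    congr 1
    rw [Finset.sum_congr rfl (g := fun _ => m) fun j hj => hall j (Finset.ne_of_mem_erase hj), Finset.sum_const,
      smul_eq_mul, Finset.card_erase_of_mem (Finset.mem_univ _)]
    congr 1
  have hW0 : W 3 ζ f 0 = Fix σ (w [0]) ⊓ Fix σ (w [1]) := by
    ext v
    rw [mem_W, Submodule.mem_inf, mem_Fix, mem_Fix, Fin.forall_fin_two]
    simp only [hf, Pi.zero_apply, ZMod.val_zero, pow_zero, one_smul]
    rfl
  have hnine := nine' (σ := σ) h3 (x := w [0]) (y := w [1]) (by
      rw [← w_append, ← w_append]; exact weq1 (by decide +kernel)) (by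
      rw [← w_append, ← w_append]; exact weq1 (by decide +kernel)) (weq2 (by decide +kernel))
  rw [← hW0, hV] at hnine
  have c1 : finrank K (Fix σ (w [0])) = finrank K (Fix σ (w [1])) :=
    fix_conj (k := w [2, 2]) (weq2 (by decide +kernel))
  have c2 : finrank K (Fix σ (w [0])) = finrank K (Fix σ (w [0] * w [1])) := by
    refine fix_conj (k := w [2, 8]) ?_
    rw [← w_append [0] [1]]
    exact weq2 (a := [2, 8]) (b := [0] ++ [1]) (c := [0]) (d := [2, 8]) (by decide +kernel)
  have c3 : finrank K (Fix σ (w [0])) = finrank K (Fix σ (w [0] * w [0] * w [1])) := by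
    refine fix_conj (k := w [2]) ?_
    rw [← w_append [0] [0], ← w_append ([0] ++ [0]) [1]]
    exact weq2 (a := [2]) (b := [0] ++ [0] ++ [1]) (c := [0]) (d := [2]) (by decide +kernel)
  have c4 : finrank K (Fix σ (w Y)) = finrank K (Fix σ (w X)) :=
    fix_conj (k := w [3, 6, 3, 2]) (weq2 (by decide +kernel))
  have c5 : finrank K (Fix σ (w X * w Y)) = finrank K (Fix σ (w [2])) := by
    refine fix_conj (k := w [0, 2, 7, 6]) ?_
    rw [← w_append X Y]
    exact weq2 (a := [0, 2, 7, 6]) (b := [2]) (c := X ++ Y) (d := [0, 2, 7, 6]) (by decide +kernel)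
  have hsc := hI.scott gen
  rw [hV, c4, c5] at hsc
  -- `m = 1`
  have hm1 : m = 1 := by
    have h1 : m ≠ 0 := by
      intro h0
      have h2 : Fix σ (w [0]) ⊓ Fix σ (w [1]) = ⊤ := by
        rw [← hW0]
        apply Submodule.eq_top_of_finrank_eq
        omega
      have h4 : σ (w [0]) = 1 := by
        ext v
        have : v ∈ Fix σ (w [0]) ⊓ Fix σ (w [1]) := by rw [h2]; trivial
        exact mem_Fix.1 this.1
      have h5 : finrank K (Fix σ (w [0])) = 12 := by
        have h6 : Fix σ (w [0]) = ⊤ := by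
          rw [eq_top_iff]
          intro v _
          rw [mem_Fix, h4, Module.End.one_apply]
        rw [h6, finrank_top, hV]
      have : (X : List ℕ) = [0] := rfl
      rw [this, h5] at hsc
      omega
    omega
  have h6 : finrank K (Fix σ (w [0])) = 6 := by omega
  have h7 : 0 < finrank K (Fix σ (w [2])) := by
    have hpos : 0 < finrank K (W 3 ζ f ![0, 1]) := by rw [← hm, hm1]; norm_num
    have : Nontrivial (W 3 ζ f ![0, 1]) := Module.nontrivial_of_finrank_pos hpos
    obtain ⟨⟨v, hv⟩, hv0⟩ := exists_ne (0 : W 3 ζ f ![0, 1])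
    have hv0' : v ≠ 0 := fun h => hv0 (Subtype.ext h)
    have hmem : ∀ i : ℕ, (σ (w yi) ^ i) v ∈ W 3 ζ f (M^[i] ![0, 1]) := by
      intro i
      induction i with
      | zero => exact hv
      | succ i ih =>
        rw [Function.iterate_succ_apply', pow_succ', Module.End.mul_apply]
        exact step hζ.pow_eq_one ih
    have hne0 : ∀ i : ℕ, (σ (w yi) ^ i) v ≠ 0 := by
      intro i h0
      rw [← map_pow] at h0
      have h1 : σ ((w yi ^ i)⁻¹) (σ (w yi ^ i) v) = v := by
        rw [← mul_apply', inv_mul_cancel, map_one, Module.End.one_apply]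
      rw [h0, map_zero] at h1
      exact hv0' h1.symm
    have hli : LinearIndependent K (fun i : Fin 8 => (σ (w yi) ^ (i : ℕ)) v) :=
      ((indep_W h3' hζ hc hp).comp inj).linearIndependent _ (fun i => hmem i) (fun i => hne0 i)
    have hu : (∑ i : Fin 8, (σ (w yi) ^ (i : ℕ)) v) ≠ 0 := by
      intro h0
      have := Fintype.linearIndependent_iff.1 hli (fun _ => 1) (by simpa using h0) 0
      exact one_ne_zero this
    have h8 : σ (w yi) ^ 8 = 1 := by
      rw [← map_pow]
      have : w yi ^ 8 = 1 := by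
        simp only [pow_succ, pow_zero, one_mul, ← w_append]
        exact weq1 (by decide +kernel)
      rw [this, map_one]
    have hfix : σ (w yi) (∑ i : Fin 8, (σ (w yi) ^ (i : ℕ)) v) = ∑ i : Fin 8, (σ (w yi) ^ (i : ℕ)) v := by
      rw [Fin.sum_univ_eq_sum_range (fun i => (σ (w yi) ^ i) v) 8, map_sum]
      have h9 : ∀ i, σ (w yi) ((σ (w yi) ^ i) v) = (σ (w yi) ^ (i + 1)) v := by
        intro i
        rw [pow_succ', Module.End.mul_apply]
      simp only [h9]
      have h10 := Finset.sum_range_succ (fun i => (σ (w yi) ^ i) v) 8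
      rw [Finset.sum_range_succ' (fun i => (σ (w yi) ^ i) v) 8, h8, pow_zero] at h10
      exact add_right_cancel h10
    have hmemF : (∑ i : Fin 8, (σ (w yi) ^ (i : ℕ)) v) ∈ Fix σ (w [2]) := by
      rw [mem_Fix]
      conv_lhs => rw [← hfix]
      rw [← mul_apply', ← w_append, show w ([2] ++ yi) = 1 from weq1 (by decide +kernel), map_one,
        Module.End.one_apply]
    have : Nontrivial (Fix σ (w [2])) := ⟨⟨_, hmemF⟩, 0, fun h => hu (congrArg Subtype.val h)⟩
    exact Module.finrank_pos
  have : (X : List ℕ) = [0] := rfl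
  rw [this, h6] at hsc
  omega

end

variable {ι : Type} [Fintype ι] [DecidableEq ι] {F : Type u} [Field F] [Finite F] {P : Subgroup (Matrix.GeneralLinearGroup ι F)}

/-- **The Mathieu group of degree 11 does not occur in dimension 12.** -/
theorem m11_twelve (hC : Core P) (p : ℕ) [hp : Fact p.Prime] [CharP F p] (h : Spor.IsoM11 (Soc P))
    (hn : Fintype.card ι = 12) : False := by
  by_cases hp3 : p = 3
  · subst hp3
    obtain ⟨h1, -⟩ := m11_three hC h hn.le
    omega
  · obtain ⟨e, -⟩ := exists_letters hC h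
    have h3 : (3 : AlgebraicClosure F) ≠ 0 := by
      intro h0
      have h1 : ((3 : ℕ) : AlgebraicClosure F) = 0 := by exact_mod_cast h0
      have : CharP (AlgebraicClosure F) p := charP_of_injective_algebraMap (algebraMap F _).injective p
      rw [CharP.cast_eq_zero_iff _ p] at h1
      exact hp3 ((Nat.prime_dvd_prime_iff_eq hp.out Nat.prime_three).1 h1)
    exact no12 h3 (irr_of_core hC e) (H879.TL.finrank_clo.trans hn)

end Cfsg.Agent.H114.O12.MEl
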