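import Cfsg.Agent.H114.O12.L2
import Cfsg.Agent.H114.O12.Alt
import Cfsg.Agent.H114.O12.MEleven
import Cfsg.Agent.H937.T2Rep
import Cfsg.Agent.H915.L33Final
import Cfsg.Agent.H907.L33.Core
import Cfsg.Agent.H932.MtFin
import Cfsg.Agent.H936.U33All
import Cfsg.Agent.H659.Sp4NotSD
import Cfsg.Agent.H925.U52Form
import Cfsg.Agent.H916.T8
import Cfsg.Agent.H881.U34.Main
import Cfsg.Agent.H434.LD.PSp45
import Cfsg.Agent.H814.SzEightCore
import Cfsg.Agent.H906.T12Twelve
import Cfsg.Agent.H918.U43.Main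
import Cfsg.Agent.H363.PslCard

/-!
# S5872 and S5875: the rows of groups of Lie type and of degree at most 6 (helper114)
-/

set_option autoImplicit false
set_option linter.unusedSectionVars false

namespace Cfsg.Agent.H114.O12

open Cfsg Cfsg.Geo Matrix Cfsg.Agent.H915.LD Cfsg.Agent.H912.Bd

universe u v

variable {F : Type u} [Field F] [Fintype F] {p : ℕ} {Q : (Fin 12 → F) → F} {H P : Subgroup (GL (Fin 12) F)}

theorem c12 : Fintype.card (Fin 12) ≤ 12 := by rw [Fintype.card_fin]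

/-- odd primes do not divide the number of scalars in `P` -/
theorem not_dvd_scalars (h : Cx p Q H P) {r : ℕ} (hr : r.Prime) (h2 : r ≠ 2) :
    ¬ r ∣ Nat.card ((scalars (Fin 12) F).subgroupOf P) := by
  intro hd
  have := Fact.mk hr
  obtain ⟨z, hz⟩ := exists_prime_orderOf_dvd_card' r hd
  have h1 : z ^ 2 = 1 := by
    apply Subtype.ext
    apply Subtype.ext
    apply Units.ext
    have h3 : (((z : P) : GL (Fin 12) F)) ∈ scalars (Fin 12) F := Subgroup.mem_subgroupOf.1 z.2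
    rw [sq]
    change (((z : P) : GL (Fin 12) F) : Matrix (Fin 12) (Fin 12) F) * (((z : P) : GL (Fin 12) F)) = 1
    rcases h.scalar_pm (z : P).2 h3 with h4 | h4
    · rw [h4, one_mul]
    · rw [h4, neg_mul_neg, one_mul]
  have h3 := orderOf_dvd_of_pow_eq_one h1
  rw [hz, Nat.prime_dvd_prime_iff_eq hr Nat.prime_two] at h3
  exact h2 h3

theorem row_a5 (h : Cx p Q H P) (hp : p ≠ 5) (e : Nonempty (Soc P ≃* alternatingGroup (Fin 5))) : False := by
  obtain ⟨e⟩ := e
  have := Fact.mk h.prime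
  have := h.char
  have h1 := H937.T2.a5_dims p h.core e hp
  rw [Fintype.card_fin] at h1
  exact absurd h1 (by decide)

theorem row_a6 (h : Cx p Q H P) (hp : p ≠ 3) (e : Nonempty (Soc P ≃* alternatingGroup (Fin 6))) : False := by
  obtain ⟨e⟩ := e
  have := Fact.mk h.prime
  have := h.char
  have h1 := H937.T2.a6_dims p h.core e (not_dvd_scalars h Nat.prime_three (by norm_num)) hp
  rw [Fintype.card_fin] at h1
  exact absurd h1 (by decide)

theorem row_l33 (h : Cx p Q H P) (hp3 : p ≠ 3) (hT : IsL 3 3 (Soc P)) : Concl Q P p := by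
  obtain ⟨K, i1, i2, hK, ⟨e⟩⟩ := hT
  have := Fact.mk h.prime
  have := h.char
  have : Fact (Nat.Prime 3) := ⟨Nat.prime_three⟩
  obtain ⟨e'⟩ := H363.PslCard.psl_of_card (n := Fin 3) (F := K) (F' := ZMod 3) (by rw [hK, ZMod.card])
  have hne : Nonempty (Soc P ≃* ProjectiveSpecialLinearGroup (Fin 3) (ZMod 3)) := ⟨e.trans e'⟩
  by_cases hp2 : p = 2
  · subst hp2
    obtain ⟨hF, -, -, -, -, hQ⟩ := H907.L33.two_main h.core hK e (by rw [Fintype.card_fin])
    refine ⟨fun hP => absurd hP (hQ Q h.hQ h.fixes), fun _ => Or.inr (Or.inr (Or.inl ⟨hne, hF, ?_, ?_⟩))⟩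
    · norm_num
    · norm_num
  · have h2 := two_ne h hp2
    have h3 : (3 : F) ≠ 0 := by exact_mod_cast cast_ne h Nat.prime_three hp3
    refine ⟨fun hP => Or.inr (Or.inr (Or.inl ⟨hne, ?_⟩)), fun hP => Or.inr (Or.inr (Or.inl ⟨hne, ?_⟩))⟩
    · exact H915.L33.plus_row p h2 h3 h.hQ hP (by rw [Fintype.card_fin]) h.hH h.hc (e.trans e')
    · exact H915.L33.minus_row p h2 h3 h.hQ hP (by rw [Fintype.card_fin]) h.hH h.hc (e.trans e')

theorem row_u33 (h : Cx p Q H P) (hp3 : p ≠ 3) (hT : IsU 3 3 (Soc P)) : False := by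
  obtain ⟨K, i1, i2, hK, he⟩ := hT
  have := Fact.mk h.prime
  have := h.char
  have h1 := H936.U33All.u33_degree h.core p hp3 c12 (K := K) (by rw [hK]; norm_num) he
  rw [Fintype.card_fin] at h1
  omega

theorem row_u34 (h : Cx p Q H P) (hp2 : p ≠ 2) (hT : IsU 3 4 (Soc P)) : False := by
  have := Fact.mk h.prime
  have := h.char
  exact (H881.U34.main p hp2 h.core c12 hT).2.2.2.2.2 h.fixQ

theorem row_u42 (h : Cx p Q H P) (hp2 : p ≠ 2) (hp3 : p ≠ 3) (hT : IsU 4 2 (Soc P)) : False := by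
  obtain ⟨K, i1, i2, hK, ⟨e⟩⟩ := hT
  have := Fact.mk h.prime
  have := h.char
  have h1 := H659.Sp4.sd_six' h.core p hp2 hp3 c12 (k := K) (by rw [hK]; norm_num) e h.sd
  rw [Fintype.card_fin] at h1
  omega

theorem row_u52 (h : Cx p Q H P) (hp2 : p ≠ 2) (hT : IsU 5 2 (Soc P)) : False := by
  obtain ⟨K, i1, i2, hK, ⟨e⟩⟩ := hT
  have := Fact.mk h.prime
  have := h.char
  exact H925.U52.not_fixQ h.core p hp2 (by norm_num) (F₄ := K) (by rw [hK]; norm_num) e h.fixQ

theorem row_s45 (h : Cx p Q H P) (hp5 : p ≠ 5) (hT : IsS 2 5 (Soc P)) : False := by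
  have := Fact.mk h.prime
  have := h.char
  exact H434.PSp45.not_fixQ p h.core hT hp5 (by rw [Fintype.card_fin]) h.fixQ

theorem row_s62 (h : Cx p Q H P) (hp2 : p ≠ 2) (hT : IsS 3 2 (Soc P)) : False := by
  obtain ⟨K, i1, i2, hK, ⟨e⟩⟩ := hT
  have := Fact.mk h.prime
  have := h.char
  have h1 := (H916.T8.sp hK h.core p e (two_ne h hp2) (by rw [Fintype.card_fin]; norm_num)).1
  rw [Fintype.card_fin] at h1
  omega

theorem row_o82 (h : Cx p Q H P) (hp2 : p ≠ 2) (hT : IsOP 4 2 (Soc P)) : False := by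
  obtain ⟨K, i1, i2, hK, ⟨e⟩⟩ := hT
  have := Fact.mk h.prime
  have := h.char
  have h1 := (H916.T8.om hK h.core p e (two_ne h hp2) (by rw [Fintype.card_fin]; norm_num)).1
  rw [Fintype.card_fin] at h1
  omega

theorem row_l34 (h : Cx p Q H P) (hp2 : p ≠ 2) (hT : IsL 3 4 (Soc P)) : False := by
  obtain ⟨K, i1, i2, hK, ⟨e⟩⟩ := hT
  have := Fact.mk h.prime
  have := h.char
  exact not_dvd_scalars h Nat.prime_three (by norm_num)
    (H906.T12.l34_twelve p h.core hp2 hK (by rw [Fintype.card_fin]) e).2.1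

theorem row_u43 (h : Cx p Q H P) (hp3 : p ≠ 3) (hT : IsU 4 3 (Soc P)) : False := by
  obtain ⟨K, i1, i2, hK, ⟨e⟩⟩ := hT
  have := Fact.mk h.prime
  have := h.char
  have h1 := (H918.U43.u43_core h.core p hp3 (K := K) (by rw [hK]; norm_num) e c12).1
  rw [Fintype.card_fin] at h1
  omega

theorem row_sz (h : Cx p Q H P) (hp2 : p ≠ 2) (hT : IsSz8 (Soc P)) : False := by
  have h1 := (H814.Sz8.core_sz8 h.core (two_ne h hp2) c12 hT).1
  rw [Fintype.card_fin] at h1
  omega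

theorem row_m12 (h : Cx p Q H P) (hT : Spor.IsoM12 (Soc P)) : Concl Q P p := by
  obtain ⟨e⟩ := hT
  have := Fact.mk h.prime
  have := h.char
  obtain ⟨h1, h2, h3⟩ := H932.Mt.m12_final p h.hQ h.hH h.hc e
  exact ⟨fun _ => Or.inr (Or.inr (Or.inr (Or.inl ⟨⟨e⟩, h2, h3⟩))), fun hP => absurd h1 hP⟩

end Cfsg.Agent.H114.O12
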